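import Cfsg.Agent.DS.Defs
import Cfsg.Agent.H936.PSMain
import Cfsg.Agent.StandardComponent.AltAut

/-!
# S5881, S5882: the alternating socle (box `BoxAlt`, helper22)

For `n ≥ 7` the group `G` is `Aₙ` or `Sₙ` and `H936.good_all` applies; for `n = 5, 6` the derived series of `H ∩ S`
has at most `Ω(360) = 6` proper steps and `H / (H ∩ S)` embeds in `Out S`.
-/

set_option autoImplicit false

namespace Cfsg.Agent.DS.AltRow

open Cfsg Cfsg.Agent.H936 Equiv

/-- the derived series of a finite group has at most `Ω(|K|)` proper steps -/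
theorem ps_of_cardFactors {K : Type*} [Group K] [Finite K] {k : ℕ}
    (h : ArithmeticFunction.cardFactors (Nat.card K) ≤ k) : PS k K := by
  by_contra hk
  have h1 : ∀ i, i ≤ k + 1 →
      ArithmeticFunction.cardFactors (Nat.card (derivedSeries K i)) + i ≤
        ArithmeticFunction.cardFactors (Nat.card K) := by
    intro i
    induction i with
    | zero =>
      intro _
      rw [derivedSeries_zero, Subgroup.card_top, add_zero]
    | succ i ih =>
      intro hi
      have h2 := ih (by omega)
      have h3 : derivedSeries K (i + 1) ≠ derivedSeries K i := fun h4 => hk (PS.mono h4 (by omega))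
      have h4 : derivedSeries K (i + 1) ≤ derivedSeries K i := derivedSeries_antitone K (Nat.le_succ i)
      obtain ⟨c, hc⟩ := Subgroup.card_dvd_of_le h4
      have hc0 : c ≠ 0 := by
        rintro rfl
        exact (Nat.card_pos (α := derivedSeries K i)).ne' (by simpa using hc)
      have hc1 : c ≠ 1 := by
        rintro rfl
        exact h3 (Subgroup.eq_of_le_of_card_ge h4 (by omega))
      have h5 : 0 < ArithmeticFunction.cardFactors c := by
        rw [ArithmeticFunction.cardFactors_pos_iff_one_lt]
        omega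
      rw [hc, ArithmeticFunction.cardFactors_mul (Nat.card_pos (α := derivedSeries K (i + 1))).ne' hc0] at h2
      omega
  have := h1 (k + 1) le_rfl
  omega

/-- `PS (a + 3) H` from `PS a (H ∩ S)` -/
theorem ps_of_inf (big : Big) {G : Type} [Group G] [Finite G] {S H : Subgroup G} (hs : Setup S H) {a : ℕ}
    (ha : PS a (S.subgroupOf H)) : PS (a + 3) H := by
  have hN := hs.normal
  have hS := hs.simple
  have hd := big.sch S hs.noncomm
  refine PS.of_normal (S.subgroupOf H) ha (PS.of_bot ?_)
  rw [← map_derivedSeries_of_surj (QuotientGroup.mk'_surjective (S.subgroupOf H)) 3, Subgroup.map_eq_bot_iff,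
    QuotientGroup.ker_mk']
  intro x hx
  have h1 : ((MulAut.conjNormal : G →* MulAut S).comp H.subtype) x ∈ derivedSeries (MulAut S) 3 :=
    map_derivedSeries_le _ 3 ⟨x, hx, rfl⟩
  obtain ⟨s, hs'⟩ := hd h1
  have h2 : (s : G)⁻¹ * x ∈ Subgroup.centralizer (S : Set G) := by
    rw [Subgroup.mem_centralizer_iff]
    intro y hy
    have h3 := congrArg Subtype.val (DFunLike.congr_fun hs' ⟨y, hy⟩)
    have h4 : (s : G) * y * (s : G)⁻¹ = (x : G) * y * (x : G)⁻¹ := h3
    calc y * ((s : G)⁻¹ * x) = (s : G)⁻¹ * ((s : G) * y * (s : G)⁻¹) * x := by group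
      _ = (s : G)⁻¹ * x * y := by rw [h4]; group
  rw [hs.cent, Subgroup.mem_bot, inv_mul_eq_one] at h2
  rw [Subgroup.mem_subgroupOf, ← h2]
  exact s.2

theorem small (big : Big) {G : Type} [Group G] [Finite G] {S H : Subgroup G} (hs : Setup S H)
    (h : Nat.card S ∣ 360) : PS 9 H := by
  refine ps_of_inf big hs (a := 6) (ps_of_cardFactors ?_)
  have h1 : Nat.card (S.subgroupOf H) ∣ 360 := by
    refine dvd_trans ?_ h
    rw [← Subgroup.inf_subgroupOf_right, Nat.card_congr (Subgroup.subgroupOfEquivOfLe inf_le_right).toEquiv]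
    exact Subgroup.card_dvd_of_le inf_le_left
  obtain ⟨c, hc⟩ := h1
  have hc0 : c ≠ 0 := by
    rintro rfl
    omega
  have h2 : ArithmeticFunction.cardFactors 360 = 6 := by
    rw [ArithmeticFunction.cardFactors_apply]
    simp [Nat.primeFactorsList_ofNat]
  rw [hc, ArithmeticFunction.cardFactors_mul (Nat.card_pos (α := S.subgroupOf H)).ne' hc0] at h2
  omega

theorem large (big : Big) {G : Type} [Group G] [Finite G] {S H : Subgroup G} (hs : Setup S H) {m : ℕ} (hm : 5 ≤ m)
    (e : S ≃* alternatingGroup (Fin (m + 2))) : PS 6 H := by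
  have hN := hs.normal
  set A := alternatingGroup (Fin (m + 2)) with hA
  have h5 : 5 ≤ Nat.card (Fin (m + 2)) := by
    rw [Nat.card_eq_fintype_card, Fintype.card_fin]
    omega
  let c : Perm (Fin (m + 2)) →* MulAut A := MulAut.conjNormal
  have hci : Function.Injective c := by
    rw [injective_iff_map_eq_one]
    intro σ hσ
    exact Cfsg.Agent.StandardComponent.AltAut.eq_one_of_centralizes (by omega) fun x =>
      congrArg Subtype.val (DFunLike.congr_fun hσ x)
  have hcs : Function.Surjective c := by
    intro α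
    obtain ⟨σ, hσ⟩ := Cfsg.Agent.StandardComponent.AltAut.exists_conj hm α
    refine ⟨σ, ?_⟩
    apply MulEquiv.ext
    intro x
    apply Subtype.ext
    rw [hσ]
    rfl
  let E : Perm (Fin (m + 2)) ≃* MulAut A := MulEquiv.ofBijective c ⟨hci, hcs⟩
  let ψ : G →* Perm (Fin (m + 2)) :=
    E.symm.toMonoidHom.comp ((MulAut.congr e).toMonoidHom.comp (MulAut.conjNormal : G →* MulAut S))
  have hψS : ∀ s : S, ψ s = (e s : Perm (Fin (m + 2))) := by
    intro s
    change E.symm (MulAut.congr e (MulAut.conjNormal (s : G))) = _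
    rw [MulEquiv.symm_apply_eq]
    apply MulEquiv.ext
    intro x
    have h1 : (MulAut.conjNormal (s : G) : MulAut S) (e.symm x) = s * e.symm x * s⁻¹ := rfl
    have h2 : (MulAut.congr e (MulAut.conjNormal (s : G))) x = e (MulAut.conjNormal (s : G) (e.symm x)) := rfl
    rw [h2, h1, map_mul, map_mul, map_inv, MulEquiv.apply_symm_apply]
    rfl
  have hψ : Function.Injective ψ := by
    refine E.symm.injective.comp ((MulAut.congr e).injective.comp
      (?_ : Function.Injective (MulAut.conjNormal : G →* MulAut S)))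
    rw [injective_iff_map_eq_one]
    intro g hg
    have h1 : g ∈ Subgroup.centralizer (S : Set G) := by
      rw [Subgroup.mem_centralizer_iff]
      intro y hy
      have h0 := congrArg Subtype.val (DFunLike.congr_fun hg (⟨y, hy⟩ : S))
      have h2 : g * y * g⁻¹ = y := h0
      calc y * g = g * y * g⁻¹ * g := by rw [h2]
        _ = g * y := by group
    rwa [hs.cent, Subgroup.mem_bot] at h1
  have hSA : S.map ψ = A := by
    apply le_antisymm
    · rintro _ ⟨s, hs', rfl⟩
      rw [hψS ⟨s, hs'⟩]
      exact (e ⟨s, hs'⟩).2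
    · intro x hx
      refine ⟨e.symm ⟨x, hx⟩, (e.symm ⟨x, hx⟩).2, ?_⟩
      rw [hψS, MulEquiv.apply_symm_apply]
  have hV : ¬ A ≤ H.map ψ := by
    intro h
    rw [← hSA, Subgroup.map_le_map_iff_of_injective hψ] at h
    exact hs.not_le h
  obtain ⟨W, h1, h2, h3⟩ := good_all h5 hV big.sch
  -- `W ∩ ψ(G) = ψ(H)`
  have h4 : W.comap ψ = H := by
    have h6 : H ≤ W.comap ψ := Subgroup.map_le_iff_le_comap.1 h1
    rcases hs.coatom.le_iff.1 h6 with h | h
    · exfalso
      apply h2
      change A ≤ W
      rw [← hSA, Subgroup.map_le_iff_le_comap, h]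
      exact le_top
    · exact h
  -- `W⁽⁶⁾ ≤ W ∩ A ≤ ψ(H)`
  have h7 : derivedSeries W 6 ≤ (H.map ψ).subgroupOf W := by
    intro x hx
    have h8 : x ∈ derivedSeries W 1 := derivedSeries_antitone W (by norm_num) hx
    have h9 : (x : Perm (Fin (m + 2))) ∈ A := by
      have h10 : (derivedSeries W 1).map W.subtype ≤ derivedSeries (Perm (Fin (m + 2))) 1 :=
        map_derivedSeries_le _ 1
      have h11 : derivedSeries (Perm (Fin (m + 2))) 1 ≤ A := by
        rw [derivedSeries_one, commutator_def, Subgroup.commutator_le]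
        intro a _ b _
        rw [hA, Perm.mem_alternatingGroup, map_commutatorElement, commutatorElement_eq_one_iff_mul_comm]
        exact mul_comm _ _
      exact h11 (h10 ⟨x, h8, rfl⟩)
    rw [← hSA] at h9
    obtain ⟨s, -, hsx⟩ := h9
    rw [Subgroup.mem_subgroupOf]
    refine ⟨s, ?_, hsx⟩
    rw [← h4]
    change ψ s ∈ W
    rw [hsx]
    exact x.2
  have h12 : PS 6 ((H.map ψ).subgroupOf W) := h3.of_le h7
  exact PS.of_equiv ((Subgroup.subgroupOfEquivOfLe h1).trans (H.equivMapOfInjective ψ hψ).symm) h12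

end Cfsg.Agent.DS.AltRow

namespace Cfsg.Agent.DS

open Cfsg Cfsg.Agent.H936

/-- [A] the alternating socle -/
theorem boxAlt : BoxAlt := by
  intro big G _ _ S H hs h
  obtain ⟨n, hn, ⟨e⟩⟩ := h
  rcases Nat.lt_or_ge n 7 with h7 | h7
  · refine AltRow.small big hs ?_
    have h2 : Nontrivial (Fin n) := Fin.nontrivial_iff_two_le.2 (by omega)
    have h1 := two_mul_nat_card_alternatingGroup (α := Fin n)
    rw [Nat.card_perm, Nat.card_eq_fintype_card (α := Fin n), Fintype.card_fin, ← Nat.card_congr e.toEquiv] at h1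
    have h3 : n = 5 ∨ n = 6 := by omega
    rcases h3 with rfl | rfl
    · have : Nat.card S = 60 := by
        rw [show Nat.factorial 5 = 120 from rfl] at h1
        omega
      rw [this]
      norm_num
    · have : Nat.card S = 360 := by
        rw [show Nat.factorial 6 = 720 from rfl] at h1
        omega
      rw [this]
  · obtain ⟨m, rfl⟩ := Nat.exists_eq_add_of_le' (show 2 ≤ n by omega)
    exact (AltRow.large big hs (by omega) e).mono (by norm_num)

end Cfsg.Agent.DS
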