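import Cfsg.Agent.DS.Alt
import Cfsg.Agent.DS.Gen.Perm
import Cfsg.Agent.DS.Gen.Split
import Cfsg.Agent.DS.Gen.SD
import Cfsg.Agent.DS.Cl.Final
import Cfsg.Agent.DS.Low.Rows
import Cfsg.Agent.DS.Ex.Rank
import Cfsg.Agent.DS.Ex.ParBox
import Cfsg.Agent.DS.Sp.Small
import Cfsg.Agent.DS.Sp.Fi23
import Cfsg.Agent.DS.Sp.Fi24
import Cfsg.Agent.DS.B.Main
import Cfsg.Agent.DS.M.Defs
import Cfsg.Agent.DS.M.C3

/-!
# S5881, S5882: assembly of the finished boxes (helper9)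
-/

set_option autoImplicit false

namespace Cfsg.Agent.DS

theorem thm81_pre (big : Big) (hT : Ex.BoxTor) (hN : Ex.BoxNonTor) (h2 : M.BoxM2) (h5 : M.BoxM5)
    (hc : M.BoxM3c) (hn : M.BoxM3n) : Thm81 :=
  thm81_of big Gen.boxTop Gen.boxSplit boxAlt Cl.Final.boxPSL Low.boxPSp Cl.Final.boxPSU Cl.Final.boxOOdd
    Low.boxOPlus Cl.Final.boxOMinus Rank.boxExcRank Low.boxG2 (Par.boxF4_of2 hT hN) (Par.boxE6_of2 hT hN)
    (Par.boxE7_of2 hT hN) (Par.boxE8_of2 hT hN) (Par.box2E6_of2 hT hN) Low.box3D4 Low.boxSz Low.boxRee Par.box2F4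
    Sp.boxTits Sp.boxSporRank Sp.boxSporSmall Sp.boxCo1 Sp.boxCo2 Sp.boxFi22 Sp.boxHN Sp.boxTh Sp.boxFi23 Sp.boxFi24
    B.boxB (M.boxM_of h2 h5 hc hn M.c3)

end Cfsg.Agent.DS
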